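import Cfsg.Agent.BMx.Fast
import Cfsg.Agent.BX.Max.Prim
set_option linter.all false

/-!
# `PGL₂(11)` in the Baby Monster: the test at 11 (helper4)
-/

set_option autoImplicit false
set_option maxRecDepth 100000

namespace Cfsg.Agent.BX.PGL

open Cfsg.Agent.BabyM.Conc Cfsg.Agent.H819.U33 Cfsg.Agent.BMx.Fast Cfsg.Agent.BX.Max Subgroup

/-- `u`, of order 11 -/
def wu : List Ltr :=
  [.Z10, .Z9, .X8, .X7, .X5, .X4, .y10, .y5, .y4, .y3, .y2, .p5, .hi, .p10, .hi, .p8, .hi, .p4, .hi, .p10, .hi, .xii,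
   .p10, .xii, .y4, .p3, .hi, .tau, .y1, .xii, .y2, .p2, .hi, .xii, .tau, .X0, .p8, .xii, .y5, .hi, .p6, .xii, .p9,
   .tau, .xii, .p4, .xii, .y1, .p5, .xii, .y5, .y7, .tau, .xii, .p5]

/-- `h`, of order 10 -/
def wh : List Ltr :=
  [.Z10, .Z4, .Z2, .X10, .X9, .X8, .X7, .X4, .X2, .y9, .y7, .y6, .y4, .y3, .p10, .hi, .p2, .hi, .p5, .hi, .p8, .hi,
   .p10, .hi, .p6, .hi, .p6, .hi, .xii, .p6, .xii]

/-- `w`, of order 2 -/
def ww : List Ltr :=
  [.z, .Z6, .Z2, .Z0, .X10, .X9, .X6, .X5, .X4, .X2, .X1, .X0, .y10, .y9, .y7, .y6, .y5, .y4, .y2, .y1, .hi, .p2, .hi,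
   .p6, .hi, .p4, .hi, .p6, .hi, .p9, .hi, .p, .hi, .xii, .p10, .xii, .y1, .y7, .p6, .xii, .y3, .tau, .y1, .xii, .p10,
   .xii, .y2, .p10, .xii, .taui, .y1, .xii, .p9, .xii, .y2, .y8, .p9, .xii, .y2, .y4, .tau, .xii, .p3, .xii, .y4, .p2,
   .xii, .y8, .taui, .xii, .p2, .xii]

/-- `σ`, of order 5 -/
def wsg : List Ltr :=
  [.z, .Z10, .Z9, .Z7, .Z6, .Z5, .Z4, .Z3, .Z2, .Z0, .X10, .X9, .X5, .X2, .X0, .y7, .y5, .y3, .y2, .y1, .hi, .p5, .hi,
   .p5, .hi, .p7, .hi, .p6, .hi, .p8, .xii, .p, .xii, .y10, .p9, .xii, .y8, .taui, .xii, .y6, .p, .xii, .y4, .p, .xii,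
   .y3, .taui, .xii, .y6, .p, .xii, .p, .xii, .y1, .y5, .y7, .tau, .y1, .p4, .xii, .p, .xii, .y10, .taui, .xii, .p5,
   .xii, .y4, .y7, .p5, .xii, .y9, .tau, .xii, .y6, .hi, .p5]

/-- `b`, of order 2 -/
def wb : List Ltr :=
  [.z, .Z10, .Z9, .Z7, .Z4, .Z3, .Z2, .Z1, .X10, .X9, .X8, .X6, .X5, .X3, .X2, .y9, .y7, .y5, .y4, .y3, .p5, .hi, .p9,
   .hi, .p7, .hi, .p6, .hi, .p3, .hi, .p6, .xii, .p10, .xii, .y5, .p2, .xii, .y3, .tau, .X0, .y1, .p4, .xii, .p, .xii,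
   .p9, .taui, .xii, .p, .xii, .p8, .y5, .xii, .y1]

/-- `σ w u u`, of order 47 -/
def w47 : List Ltr :=
  [.z, .Z8, .Z7, .Z6, .Z5, .Z4, .Z3, .Z2, .Z0, .X10, .X9, .X8, .X7, .X5, .X2, .y9, .y5, .p, .hi, .p5, .hi, .p4, .hi,
   .p10, .hi, .p5, .hi, .xii, .y2, .p2, .hi, .taui, .xii, .y1, .p, .xii, .p, .xii, .y4, .y7, .taui, .X0, .p10, .xii,
   .p9, .xii, .y5, .y7, .p8, .taui, .xii, .p9, .xii, .p6, .y9, .xii, .tau, .xii, .y8, .p6]

theorem o_u : orderOf (g wu) = 11 := orderOf_of_ordF (by decide +kernel)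

theorem h_ten : g wh ^ 10 = 1 := pow_of_powF (by decide +kernel)

theorem h_u : g wh * g wu = g wu ^ 2 * g wh := by
  rw [← g_pw, ← g_append, ← g_append]
  exact eq_of_eqF (by decide +kernel)

theorem w_two : g ww ^ 2 = 1 := pow_of_powF (by decide +kernel)

theorem w_h : (g ww * g wh) ^ 2 = 1 := by
  rw [← g_append]
  exact pow_of_powF (by decide +kernel)

theorem u_w : (g wu * g ww) ^ 3 = 1 := by
  rw [← g_append]
  exact pow_of_powF (by decide +kernel)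

theorem sg_u : g wsg * g wu = g wu * g wsg := by
  rw [← g_append, ← g_append]
  exact eq_of_eqF (by decide +kernel)

theorem sg_h : g wsg * g wh = g wh * g wsg := by
  rw [← g_append, ← g_append]
  exact eq_of_eqF (by decide +kernel)

theorem sg_five : g wsg ^ 5 = 1 := pow_of_powF (by decide +kernel)

theorem b_u : g wb * g wu = g wu * g wb := by
  rw [← g_append, ← g_append]
  exact eq_of_eqF (by decide +kernel)

theorem b_b : g wb * g wb = 1 := by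
  rw [← pow_two]
  exact pow_of_powF (by decide +kernel)

theorem b_h : g wb * g wh ≠ g wh * g wb := by
  rw [← g_append, ← g_append]
  exact ne_of_neF (by decide +kernel)

theorem e47 : g wsg * g ww * g wu * g wu = g w47 := by
  rw [← g_append, ← g_append, ← g_append]
  exact eq_of_eqF (by decide +kernel)

theorem o47 : orderOf (g w47) = 47 := orderOf_of_ordF (by decide +kernel)

/-- the group -/
noncomputable def HH : Subgroup G := closure {g wu, g wh, g ww}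

theorem u_mem : g wu ∈ HH := subset_closure (by simp)

theorem h_mem : g wh ∈ HH := subset_closure (by simp)

theorem w_mem : g ww ∈ HH := subset_closure (by simp)

theorem big (h47 : Gen47 G) : Big HH := h47.big u_mem (by rw [o_u]; norm_num)

theorem tst_sg (h47 : Gen47 G) : Tst HH (g wsg) :=
  (big h47).tst (fun X hX ht => e47 ▸ mul_mem (mul_mem (mul_mem ht (hX w_mem)) (hX u_mem)) (hX u_mem)) o47

/-- **The test at 11.** -/
theorem nt11 (L : Loc G) (h47 : Gen47 G) : NT HH 11 := by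
  have : Finite G := Nat.finite_of_card_ne_zero (by rw [L.card]; decide)
  exact Prim.nt11_full o_u (L.q11 _ o_u) u_mem h_mem h_u sg_u sg_five sg_h b_u b_b b_h (tst_sg h47)

end Cfsg.Agent.BX.PGL
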